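import Cfsg.Agent.H546.VO.Halve
import Cfsg.Agent.H713.Van

/-!
# Vanishing at the elements of order 40, all images under automorphisms (helper546)
-/

set_option autoImplicit false

namespace Cfsg.Agent.H546.VO

open Cfsg Cfsg.Agent.Characters.Core

variable {G : Type*} [Group G]

/-- `VZ` for `w` and `w ^ 21`. -/
theorem vz_forty [Finite G] {w : G} (hw : orderOf w = 40)
    (hc : Nat.card (Subgroup.centralizer ({w} : Set G)) ≤ 40) (h1 : ¬ IsConj w (w ^ 21))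
    (h2 : ∀ m : ℕ, m.Coprime 40 → IsConj w (w ^ m) ∨ IsConj (w ^ 21) (w ^ m))
    (h3 : IsConj (w ^ 25) (w ^ 5)) (hk : 25 ≤ Nat.card (ConjClasses G))
    (hA : ∀ α : MulAut G, IsConj w (α w) ∨ IsConj (w ^ 21) (α w)) :
    H713.VZ G w ∧ H713.VZ G (w ^ 21) := by
  obtain ⟨χ, hχ⟩ := exists_zero hw hc h1 h2 h3 hk
  have hcj : ∀ x y : G, IsConj x y → (χ : G → ℂ) x = (χ : G → ℂ) y := by
    intro x y h
    obtain ⟨c, rfl⟩ := isConj_iff.1 h
    exact (isIrr_isClassFunction χ.2 x c).symm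
  have hχ' : (χ : G → ℂ) (w ^ 21) = 0 := Cfsg.Agent.H710.VanCount.zero_pow χ hχ (by rw [hw]; norm_num)
  have hw1 : w ^ 40 = 1 := by rw [← hw, pow_orderOf_eq_one]
  have hback : (w ^ 21) ^ 21 = w := by
    rw [← pow_mul, show 21 * 21 = 40 * 11 + 1 from rfl, pow_succ, pow_mul, hw1, one_pow, one_mul]
  refine ⟨⟨χ, fun α => ?_⟩, ⟨χ, fun α => ?_⟩⟩
  · rcases hA α with h | h
    · rw [← hcj _ _ h, hχ]
    · rw [← hcj _ _ h, hχ']
  · rw [map_pow]
    rcases hA α with h | h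
    · obtain ⟨c, hc⟩ := isConj_iff.1 h
      rw [← hcj (w ^ 21) ((α w) ^ 21) (isConj_iff.2 ⟨c, by rw [← hc, conj_pow]⟩), hχ']
    · obtain ⟨c, hc⟩ := isConj_iff.1 h
      rw [← hcj w ((α w) ^ 21) (isConj_iff.2 ⟨c, by rw [← hc, conj_pow, hback]⟩), hχ]

end Cfsg.Agent.H546.VO
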