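import Cfsg.Agent.H546.VO.HNForty
import Cfsg.Agent.H546.VO.Vz
import Cfsg.Agent.H710.Spor.HNMix
import Cfsg.Agent.H997.OutHN
import Cfsg.Agent.H492.IMHN
import Cfsg.Agent.H387.VO.Main

/-!
# The Harada–Norton group, `p = 5` (helper546, for S4987)

The elements of order 35 (7-defect zero, degree 365750) and of order 40.
-/

set_option autoImplicit false

namespace Cfsg.Agent.H546.VO.HN

open Cfsg Subgroup Cfsg.Agent.H713 Cfsg.Agent.H710.VanCount Cfsg.Agent.H665.NoPQ
open Cfsg.Agent.HN.Pres Cfsg.Agent.HN.H0Basic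
open Cfsg.Agent.H710.Spor.HNMix

universe u v

/-- The outer automorphism acts on `2.HS.2` by `twist`. -/
theorem exists_twist : ∃ α : MulAut Cfsg.Spor.HN, (∀ g : Cfsg.Spor.HN, α ≠ MulAut.conj g) ∧
    ∀ h : H0, α (ψ h) = ψ (H997.OutHN.twist h) := by
  have hs := H997.OutHN.simple'
  have hfin := KFacts.HN.finite_HN
  obtain ⟨θ, hx, hy, hz, -⟩ := H997.OutHN.exists_end
  have hx2 : Cfsg.Agent.HN.Pres.hx ^ 2 ≠ 1 := by
    rw [← H997.OutHN.ψ_τ]
    intro h
    exact KFacts.HN.emb.ne (KFacts.HN.emb.inj (h.trans (map_one _).symm))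
  have hinj : Function.Injective θ := by
    rw [← MonoidHom.ker_eq_bot_iff]
    rcases IsSimpleGroup.eq_bot_or_eq_top_of_normal θ.ker inferInstance with h | h
    · exact h
    · exfalso
      have h1 : Cfsg.Agent.HN.Pres.hx ∈ θ.ker := by rw [h]; exact Subgroup.mem_top _
      rw [MonoidHom.mem_ker, hx] at h1
      exact hx2 (by rw [h1, one_pow])
  have hcomp : θ.comp Cfsg.Agent.HN.NormalH.ψ = Cfsg.Agent.HN.NormalH.ψ.comp H997.OutHN.twist := by
    refine MonoidHom.eq_of_eqOn_dense closure_gens ?_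
    rintro h (rfl | rfl | rfl)
    · rw [MonoidHom.comp_apply, MonoidHom.comp_apply, H997.OutHN.twist_gx, Cfsg.Agent.HN.NormalH.ψ_gx, hx]
    · rw [MonoidHom.comp_apply, MonoidHom.comp_apply, H997.OutHN.twist_gy, Cfsg.Agent.HN.NormalH.ψ_gy, hy]
    · rw [MonoidHom.comp_apply, MonoidHom.comp_apply, H997.OutHN.twist_gz, map_mul, Cfsg.Agent.HN.NormalH.ψ_gz,
        H997.OutHN.ψ_τ, hz]
  refine ⟨MulEquiv.ofBijective θ (Finite.injective_iff_bijective.1 hinj), ?_, fun h => ?_⟩
  · intro g hg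
    have happ : ∀ u : Cfsg.Spor.HN, θ u = g * u * g⁻¹ := fun u =>
      congrArg (fun β : MulAut Cfsg.Spor.HN => β u) hg
    have hc : ∀ u : Cfsg.Spor.HN, θ u = u → g * u = u * g := by
      intro u hu
      rw [happ] at hu
      exact mul_inv_eq_iff_eq_mul.1 hu
    have hgτ : g * Cfsg.Agent.HN.NormalH.ψ τ = Cfsg.Agent.HN.NormalH.ψ τ * g := by
      apply hc
      rw [H997.OutHN.ψ_τ, map_pow, hx]
    obtain ⟨h, rfl⟩ := KFacts.HN.emb.cent g hgτ
    have hK : ∀ k ∈ Cfsg.Agent.HN.HS100.K, h * k = k * h := by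
      intro k hk
      apply KFacts.HN.emb.inj
      rw [map_mul, map_mul]
      apply hc
      have h1 := congrArg (fun f : H0 →* Cfsg.Spor.HN => f k) hcomp
      simp only [MonoidHom.comp_apply] at h1
      rw [h1, H997.OutHN.twist_of_mem hk]
    have hz' : θ Cfsg.Agent.HN.Pres.hz = Cfsg.Agent.HN.Pres.hz := by
      rw [happ, mul_inv_eq_iff_eq_mul, ← Cfsg.Agent.HN.NormalH.ψ_gz, ← map_mul, ← map_mul]
      rcases Cfsg.Agent.HN.StepFive.eq_of_comm_K hK with rfl | rfl
      · rw [one_mul, mul_one]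
      · rw [τ_comm]
    rw [hz] at hz'
    exact hx2 (mul_eq_left.1 hz')
  · exact congrArg (fun f : H0 →* Cfsg.Spor.HN => f h) hcomp

/-- The images under automorphisms of the elements of `2.HS.2`. -/
theorem aut_cases (α : MulAut Cfsg.Spor.HN) (h : H0) :
    IsConj (ψ h) (α (ψ h)) ∨ IsConj (ψ (h * τ)) (α (ψ h)) := by
  obtain ⟨β, hβ, hβ2⟩ := exists_twist
  have hn : β ∉ (MulAut.conj : Cfsg.Spor.HN →* MulAut Cfsg.Spor.HN).range := by
    rintro ⟨g, hg⟩
    exact hβ g hg.symm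
  by_cases hα : α ∈ (MulAut.conj : Cfsg.Spor.HN →* MulAut Cfsg.Spor.HN).range
  · obtain ⟨g, rfl⟩ := hα
    left
    exact isConj_iff.2 ⟨g, rfl⟩
  · rcases KFacts.HN.out_index with hi | hi
    · rw [Subgroup.index_eq_one] at hi
      exact absurd (hi ▸ Subgroup.mem_top α) hα
    · have h1 : β⁻¹ * α ∈ (MulAut.conj : Cfsg.Spor.HN →* MulAut Cfsg.Spor.HN).range := by
        rw [Subgroup.mul_mem_iff_of_index_two hi, inv_mem_iff]
        exact iff_of_false hn hα
      obtain ⟨g, hg⟩ := h1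
      have h2 : α (ψ h) = β (g * ψ h * g⁻¹) := by
        have h3 : α = β * MulAut.conj g := by rw [hg, mul_inv_cancel_left]
        rw [h3]
        rfl
      have h4 : α (ψ h) = β g * ψ (H997.OutHN.twist h) * (β g)⁻¹ := by
        rw [h2, map_mul, map_mul, map_inv, hβ2]
      by_cases hk : h ∈ Cfsg.Agent.HN.HS100.K
      · left
        rw [H997.OutHN.twist_of_mem hk] at h4
        exact isConj_iff.2 ⟨β g, h4.symm⟩
      · right
        rw [H997.OutHN.twist_of_not hk] at h4
        exact isConj_iff.2 ⟨β g, h4.symm⟩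

/-! ### the element of order 40 -/

open Cfsg.Agent.H546.VO.HNForty in
theorem y_mul_τ : y40 * τ = y40 ^ 21 := by
  rw [pow_succ', y_pow_20]

open Cfsg.Agent.H546.VO.HNForty in
theorem card_cent_y : Nat.card (centralizer ({ψ y40} : Set Cfsg.Spor.HN)) ≤ 40 := by
  have hf : ∀ g : centralizer ({ψ y40} : Set Cfsg.Spor.HN), ∃ i : Fin 20 × Bool,
      (g : Cfsg.Spor.HN) = ψ (y40 ^ (i.1 : ℕ) * (if i.2 then τ else 1)) := by
    rintro ⟨g, hg⟩
    have hg1 : Commute g (ψ y40) := mem_centralizer_singleton_iff.1 hg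
    have hg2 : g * ψ τ = ψ τ * g := by
      have h := hg1.pow_right 20
      rw [← map_pow, y_pow_20] at h
      exact h
    obtain ⟨u, rfl⟩ := KFacts.HN.emb.cent g hg2
    have h4 : u * y40 = y40 * u := by
      apply ψ_inj
      rw [map_mul, map_mul]
      exact hg1
    obtain ⟨k, hk, h8 | h8⟩ := mem_of_comm h4
    · exact ⟨(⟨k, hk⟩, false), (congrArg ψ h8).trans (by simp)⟩
    · exact ⟨(⟨k, hk⟩, true), (congrArg ψ h8).trans (by simp)⟩
  choose f hf using hf
  have hinj : Function.Injective f := fun a b hab => Subtype.ext (by rw [hf a, hf b, hab])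
  have h := Nat.card_le_card_of_injective f hinj
  simpa using h

open Cfsg.Agent.H546.VO.HNForty in
theorem orderOf_w : orderOf (ψ y40) = 40 := by
  rw [orderOf_injective ψ ψ_inj]
  exact orderOf_y

open Cfsg.Agent.H546.VO.HNForty in
theorem not_conj : ¬ IsConj (ψ y40) ((ψ y40) ^ 21) := by
  intro hc
  obtain ⟨g, hg⟩ := isConj_iff.1 hc
  have hg2 : g * ψ τ = ψ τ * g := by
    have h3 : (g * ψ y40 * g⁻¹) ^ 20 = ((ψ y40) ^ 21) ^ 20 := by rw [hg]
    rw [conj_pow, ← map_pow, y_pow_20, ← map_pow, ← map_pow, ← pow_mul, show 21 * 20 = 20 * 21 from rfl, pow_mul,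
      y_pow_20, show 21 = 2 * 10 + 1 from rfl, pow_succ, pow_mul, τ_sq, one_pow, one_mul] at h3
    exact mul_inv_eq_iff_eq_mul.1 h3
  obtain ⟨u, rfl⟩ := KFacts.HN.emb.cent g hg2
  apply not_conj_τ (u := u)
  apply ψ_inj
  rw [y_mul_τ, map_mul, map_mul, map_inv, map_pow]
  exact hg

/-- a subgroup of index two -/
theorem conj_pow {G : Type*} [Group G] {w : G} {a b : ℕ} (ha : IsConj w (w ^ a)) (hb : IsConj w (w ^ b)) :
    IsConj w (w ^ (a * b)) := by
  obtain ⟨g, hg⟩ := isConj_iff.1 ha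
  obtain ⟨h, hh⟩ := isConj_iff.1 hb
  refine isConj_iff.2 ⟨h * g, ?_⟩
  calc h * g * w * (h * g)⁻¹ = h * (g * w * g⁻¹) * h⁻¹ := by group
    _ = (h * w * h⁻¹) ^ a := by rw [hg, _root_.conj_pow]
    _ = w ^ (a * b) := by rw [hh, ← pow_mul, mul_comm]

theorem list_cases : ∀ m < 40, m.Coprime 40 → m ∈ [1, 7, 9, 11, 13, 19, 23, 37] ∨
    m * 21 % 40 ∈ [1, 7, 9, 11, 13, 19, 23, 37] := by decide

theorem conj_cases {G : Type*} [Group G] {w : G} (hw : w ^ 40 = 1) (h23 : IsConj w (w ^ 23))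
    (h11 : IsConj w (w ^ 11)) (m : ℕ) (hm : m.Coprime 40) : IsConj w (w ^ m) ∨ IsConj (w ^ 21) (w ^ m) := by
  have hmod : ∀ n : ℕ, w ^ (n % 40) = w ^ n := by
    intro n
    conv_rhs => rw [← Nat.div_add_mod n 40, pow_add, pow_mul, hw, one_pow, one_mul]
  have h1 : IsConj w (w ^ 1) := by rw [pow_one]
  have h9 : IsConj w (w ^ 9) := by
    have h := conj_pow h23 h23
    rwa [← hmod] at h
  have h7 : IsConj w (w ^ 7) := by
    have h := conj_pow h23 h9
    rwa [← hmod] at h
  have h13 : IsConj w (w ^ 13) := by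
    have h := conj_pow h23 h11
    rwa [← hmod] at h
  have h19 : IsConj w (w ^ 19) := by
    have h := conj_pow h9 h11
    rwa [← hmod] at h
  have h37 : IsConj w (w ^ 37) := by
    have h := conj_pow h7 h11
    rwa [← hmod] at h
  have hall : ∀ k ∈ [1, 7, 9, 11, 13, 19, 23, 37], IsConj w (w ^ k) := by
    intro k hk
    simp only [List.mem_cons, List.not_mem_nil, or_false] at hk
    rcases hk with rfl | rfl | rfl | rfl | rfl | rfl | rfl | rfl
    exacts [h1, h7, h9, h11, h13, h19, h23, h37]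
  have hm' : (m % 40).Coprime 40 := by
    rw [Nat.Coprime, Nat.gcd_comm, Nat.gcd_rec] at hm
    rwa [Nat.Coprime]
  rcases list_cases (m % 40) (Nat.mod_lt _ (by norm_num)) hm' with h | h
  · left
    rw [← hmod m]
    exact hall _ h
  · right
    have h2 := hall _ h
    obtain ⟨g, hg⟩ := isConj_iff.1 h2
    refine isConj_iff.2 ⟨g, ?_⟩
    rw [← _root_.conj_pow, hg, ← hmod m, ← pow_mul, ← hmod]
    congr 1
    have h3 : m % 40 < 40 := Nat.mod_lt _ (by norm_num)
    omega

/-! ### the number of classes -/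

/-- the orders in use -/
def ordC : Finset ℕ := insert 40 ordB

theorem exists_ordC : ∀ n ∈ ordC, ∃ g : Cfsg.Spor.HN, orderOf g = n := by
  intro n hn
  rw [ordC, Finset.mem_insert] at hn
  rcases hn with rfl | hn
  · exact ⟨_, orderOf_w⟩
  · exact exists_ordB n hn

open Cfsg.Agent.H546.VO.HNForty in
theorem pair40 : ∃ g h : Cfsg.Spor.HN, orderOf g = 40 ∧ orderOf h = 40 ∧ ¬ IsConj g h := by
  refine ⟨ψ y40, (ψ y40) ^ 21, orderOf_w, ?_, not_conj⟩
  rw [Nat.Coprime.orderOf_pow (by rw [orderOf_w]; norm_num), orderOf_w]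

theorem card_conjClasses : 25 ≤ Nat.card (ConjClasses Cfsg.Spor.HN) := by
  have := Cfsg.Agent.H710.Spor.HN.finite_hn
  obtain ⟨y, hy⟩ := exists_prime_orderOf_dvd_card' (G := Cfsg.Spor.HN) 19
    (by rw [Cfsg.Agent.H710.Spor.HN.card_hn]; norm_num)
  have h19 : 19 ∣ Nat.card (centralizer ({y} : Set Cfsg.Spor.HN)) := by
    have h1 : zpowers y ≤ centralizer ({y} : Set Cfsg.Spor.HN) := by
      rw [zpowers_le, mem_centralizer_singleton_iff]
    have h2 := Subgroup.card_dvd_of_le h1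
    rwa [Nat.card_zpowers, hy] at h2
  obtain ⟨c, hc⟩ := h19
  by_cases hc1 : c = 1
  · subst hc1
    have h1 : ∃ m : ZMod 19, m ≠ 0 ∧ ¬ IsConj y (y ^ m.val) := by
      by_contra hcon
      push Not at hcon
      have h2 := Cfsg.Agent.H710.OutVan.dvd_of_conj fac19 hy (by rw [hc]) hcon
      rw [Cfsg.Agent.H710.Spor.HN.card_hn] at h2
      norm_num at h2
    obtain ⟨m, hm0, hm⟩ := h1
    have h3 : orderOf (y ^ m.val) = 19 := by
      rw [Nat.Coprime.orderOf_pow, hy]
      rw [hy]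
      have h4 : m.val < 19 := m.val_lt
      have h5 : m.val ≠ 0 := fun h => hm0 ((ZMod.val_eq_zero m).1 h)
      exact Nat.coprime_of_lt_prime h5 h4 (by norm_num)
    have h4 := le_card_conjClasses_two (G := Cfsg.Spor.HN) ordC {2, 4, 19, 40} exists_ordC (by
      intro n hn
      simp only [Finset.mem_insert, Finset.mem_singleton] at hn
      rcases hn with rfl | rfl | rfl | rfl
      · exact pair2
      · exact pair4
      · exact ⟨y, _, hy, h3, hm⟩
      · exact pair40)
    have h5 : ordC.card + ({2, 4, 19, 40} : Finset ℕ).card = 25 := by decide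
    omega
  · obtain ⟨r, hr, hrc⟩ := Nat.exists_prime_and_dvd hc1
    have := Fact.mk hr
    obtain ⟨z, hz⟩ := exists_prime_orderOf_dvd_card' (G := centralizer ({y} : Set Cfsg.Spor.HN)) r
      (hrc.trans (Dvd.intro_left _ hc.symm))
    have hz' : orderOf (z : Cfsg.Spor.HN) = r := by rw [Subgroup.orderOf_coe, hz]
    have hyz : Commute y (z : Cfsg.Spor.HN) := (mem_centralizer_singleton_iff.1 z.2).symm
    have hr19 : r ≠ 19 := by
      rintro rfl
      obtain ⟨d, rfl⟩ := hrc
      have h1 := (centralizer ({y} : Set Cfsg.Spor.HN)).card_subgroup_dvd_card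
      rw [hc, Cfsg.Agent.H710.Spor.HN.card_hn, ← mul_assoc] at h1
      have h2 := (Dvd.intro _ rfl : 19 * 19 ∣ 19 * 19 * d).trans h1
      norm_num at h2
    have hr2 : r ≠ 2 := by
      rintro rfl
      have h1 : zpowers y ≤ centralizer ({(z : Cfsg.Spor.HN)} : Set Cfsg.Spor.HN) := by
        rw [zpowers_le, mem_centralizer_singleton_iff]
        exact hyz.eq
      have h2 := Subgroup.card_dvd_of_le h1
      rw [Nat.card_zpowers, hy] at h2
      rcases Cfsg.Agent.SigZeroHN.card_centralizer_cases hz' with h | h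
      · rw [h.2] at h2; norm_num at h2
      · rw [h.2] at h2; norm_num at h2
    have h3 : orderOf (y * (z : Cfsg.Spor.HN)) = 19 * r := by
      rw [hyz.orderOf_mul_eq_mul_orderOf_of_coprime, hy, hz']
      rw [hy, hz']
      exact (Nat.coprime_primes (by norm_num) hr).2 (Ne.symm hr19)
    have h3r : 3 ≤ r := by
      have := hr.two_le
      omega
    have hnot : 19 * r ∉ ordC := by
      intro h
      simp only [ordC, ordB, Finset.mem_insert, Finset.mem_singleton] at h
      omega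
    have h4 := le_card_conjClasses_two (G := Cfsg.Spor.HN) (insert (19 * r) ordC) {2, 4, 40} (by
      intro n hn
      rw [Finset.mem_insert] at hn
      rcases hn with rfl | hn
      · exact ⟨_, h3⟩
      · exact exists_ordC n hn) (by
      intro n hn
      simp only [Finset.mem_insert, Finset.mem_singleton] at hn
      rcases hn with rfl | rfl | rfl
      · exact pair2
      · exact pair4
      · exact pair40)
    rw [Finset.card_insert_of_notMem hnot] at h4
    have h5 : ordC.card + ({2, 4, 40} : Finset ℕ).card = 24 := by decide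
    omega

open Cfsg.Agent.H546.VO.HNForty in
/-- The element of order 40. -/
theorem vz40 : VZ Cfsg.Spor.HN (ψ y40) := by
  have := Cfsg.Agent.H710.Spor.HN.finite_hn
  refine (vz_forty orderOf_w card_cent_y not_conj ?_ ?_ card_conjClasses ?_).1
  · refine conj_cases (by rw [← orderOf_w, pow_orderOf_eq_one]) ?_ ?_
    · obtain ⟨g, hg⟩ := c23
      rw [pow_one] at hg
      exact isConj_iff.2 ⟨ψ g, by rw [← map_pow, ← hg, map_mul, map_mul, map_inv]⟩
    · obtain ⟨g, hg⟩ := c11
      rw [pow_one] at hg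
      exact isConj_iff.2 ⟨ψ g, by rw [← map_pow, ← hg, map_mul, map_mul, map_inv]⟩
  · obtain ⟨g, hg⟩ := c25
    exact isConj_iff.2 ⟨ψ g, by rw [← map_pow, ← map_pow, ← hg, map_mul, map_mul, map_inv]⟩
  · intro α
    have h := aut_cases α y40
    rwa [y_mul_τ, map_pow] at h

theorem hasDZ_seven : HasDZ 7 Cfsg.Spor.HN := by
  have := Cfsg.Agent.H710.Spor.HN.finite_hn
  have : Fact (Nat.Prime 7) := ⟨by norm_num⟩
  obtain ⟨χ, hχ⟩ := Cfsg.Agent.H492.IMHN.exists_365750
  refine Cfsg.Agent.H419.Row.dz_of_dvd (n := 1) χ ?_ ?_ (by norm_num)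
  · rw [Blocks.Basic.charDegree_of_eq hχ]
    norm_num
  · rw [Cfsg.Agent.H710.Spor.HN.card_hn]
    exact factorization_eq_one (by norm_num) (by norm_num)

open Cfsg.Agent.H546.VO.HNForty in
theorem two_hn' : H387.VO.TwoVan 5 Cfsg.Spor.HN := by
  have := Cfsg.Agent.H710.Spor.HN.finite_hn
  have : Fact (Nat.Prime 7) := ⟨by norm_num⟩
  obtain ⟨x, hx⟩ := exists_hn 35 (by decide)
  refine H387.VO.TwoVan.of_order (x := x) (y := ψ y40) (by rw [hx]; norm_num) (by rw [orderOf_w]; norm_num)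
    (HasDZ.vz hasDZ_seven (by rw [hx]; norm_num)) vz40 (by rw [hx, orderOf_w]; norm_num)

/-- **The row `HN`, `p = 5`.** -/
theorem two_hn_p {K : Type u} [Group K] (h : Spor.IsoHN K) : H387.VO.TwoVan 5 K := by
  obtain ⟨e⟩ := h
  exact two_hn'.mulEquiv e.symm

end Cfsg.Agent.H546.VO.HN
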