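import Cfsg.Agent.H546.VO.Vz
import Cfsg.Agent.H710.Spor.Ly
import Cfsg.Agent.H387.VO.Main

/-!
# The Lyons group, `p = 5` (helper546, for S4987)

The elements of order 40 over the cycle type `4 5 2` of `A₁₁`.
-/

set_option autoImplicit false
set_option Elab.async false
set_option linter.unusedSectionVars false

namespace Cfsg.Agent.H546.VO.Ly

open Cfsg Subgroup Equiv Cfsg.Agent.H713 Cfsg.Agent.H710.VanCount Cfsg.Agent.SporRec.TwoAn
open Cfsg.Agent.H710.Spor.Ly

universe u v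

theorem type40 : t40.cycleType = {4, 5, 2} := by decide +kernel

theorem card40 : Nat.card (centralizer ({t40} : Set (Perm (Fin 11)))) = 40 := by
  rw [Equiv.Perm.nat_card_centralizer, type40]
  decide

theorem hasOdd40 : Cfsg.Agent.CpAutLy.Cov.HasOdd t40 := by
  refine ⟨cyc 0 4, ?_, ?_⟩ <;> decide +kernel

theorem sgn40 : Perm.sign t40 = 1 := by decide +kernel

/-- The even permutations commuting with `t40`. -/
theorem mem_zpowers {ρ : Perm (Fin 11)} (h : ρ * t40 = t40 * ρ) (hs : Perm.sign ρ = 1) : ρ ∈ zpowers t40 := by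
  set P : Subgroup (Perm (Fin 11)) := centralizer ({t40} : Set (Perm (Fin 11))) with hP
  have hle : zpowers t40 ≤ P ⊓ alternatingGroup (Fin 11) := by
    rw [zpowers_le]
    exact ⟨mem_centralizer_singleton_iff.2 rfl, Perm.mem_alternatingGroup.2 sgn40⟩
  have hcard : Nat.card ↥(P ⊓ alternatingGroup (Fin 11)) ≤ 20 := by
    have h1 : Nat.card ↥(P ⊓ alternatingGroup (Fin 11)) ∣ 40 := by
      rw [← card40]
      exact card_dvd_of_le inf_le_left
    have h2 : Nat.card ↥(P ⊓ alternatingGroup (Fin 11)) ≠ 40 := by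
      intro h2
      have h3 : P ⊓ alternatingGroup (Fin 11) = P :=
        Subgroup.eq_of_le_of_card_ge inf_le_left (by rw [h2, hP, card40])
      obtain ⟨c, hc, hc'⟩ := hasOdd40
      have h4 : c ∈ P := mem_centralizer_singleton_iff.2 hc
      rw [← h3] at h4
      have h5 := Perm.mem_alternatingGroup.1 h4.2
      rw [hc'] at h5
      exact absurd h5 (by decide)
    obtain ⟨k, hk⟩ := h1
    have hk0 : k ≠ 0 := by
      rintro rfl
      omega
    by_contra hcon
    have h5 : k < 2 := by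
      by_contra h6
      have : 21 * 2 ≤ Nat.card ↥(P ⊓ alternatingGroup (Fin 11)) * k :=
        Nat.mul_le_mul (by omega) (by omega)
      omega
    have h6 : k = 1 := by omega
    subst h6
    omega
  have heq : zpowers t40 = P ⊓ alternatingGroup (Fin 11) := by
    refine Subgroup.eq_of_le_of_card_ge hle ?_
    rw [Nat.card_zpowers, o40]
    exact hcard
  rw [heq]
  exact ⟨mem_centralizer_singleton_iff.2 h, Perm.mem_alternatingGroup.2 hs⟩

theorem types : ∀ m < 20, m.Coprime 20 → (t40 ^ m).cycleType = t40.cycleType := by decide +kernel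

/-- `t40 ^ m` is conjugate to `t40` by an even permutation. -/
theorem exists_even {m : ℕ} (hm : m.Coprime 40) : ∃ ρ : Perm (Fin 11), Perm.sign ρ = 1 ∧ ρ * t40 * ρ⁻¹ = t40 ^ m := by
  have h1 : t40 ^ m = t40 ^ (m % 20) := by
    rw [← o40, pow_mod_orderOf]
  have h2 : (m % 20).Coprime 20 := by
    have h3 : m.Coprime 20 := Nat.Coprime.coprime_dvd_right (by norm_num) hm
    rw [Nat.Coprime, Nat.gcd_comm, Nat.gcd_rec] at h3
    rwa [Nat.Coprime]
  have h3 := types (m % 20) (Nat.mod_lt _ (by norm_num)) h2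
  rw [← h1] at h3
  obtain ⟨ρ, hρ⟩ := isConj_iff.1 (Perm.isConj_iff_cycleType_eq.2 h3.symm)
  rcases Int.units_eq_one_or (Perm.sign ρ) with h | h
  · exact ⟨ρ, h, hρ⟩
  · obtain ⟨c, hc, hc'⟩ := hasOdd40
    refine ⟨ρ * c, by rw [Perm.sign_mul, h, hc']; decide, ?_⟩
    rw [← hρ]
    calc ρ * c * t40 * (ρ * c)⁻¹ = ρ * (c * t40) * c⁻¹ * ρ⁻¹ := by group
      _ = ρ * (t40 * c) * c⁻¹ * ρ⁻¹ := by rw [hc]
      _ = ρ * t40 * ρ⁻¹ := by group

theorem p25 : t40 ^ 25 = (swap 0 1 * swap 1 2) * (swap 2 3 * swap 9 10) := by decide +kernel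
theorem p3 : (swap 0 1 * swap 1 2 : Perm (Fin 11)) ^ 3 = 1 := by decide +kernel
theorem c1 : (swap 9 10 * swap 4 5 : Perm (Fin 11)) * (swap 0 1 * swap 1 2) =
    (swap 0 1 * swap 1 2) * (swap 9 10 * swap 4 5) := by decide +kernel
theorem c2 : (swap 9 10 * swap 4 5 : Perm (Fin 11)) * (swap 2 3 * swap 9 10) = swap 4 5 * swap 2 3 := by
  decide +kernel
theorem sg : Perm.sign (swap 0 1 * swap 1 2 : Perm (Fin 11)) = 1 ∧ Perm.sign (swap 2 3 * swap 9 10 : Perm (Fin 11)) = 1 ∧
    Perm.sign (swap 9 10 * swap 4 5 : Perm (Fin 11)) = 1 := by decide +kernel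

section cover

variable {C : Type*} [Group C] (K : Cover (Fin 11) C)

include K in
/-- `u` over `t40 ^ 25` is conjugate to `u z`. -/
theorem conj_z {u : C} (hu : K.π u = t40 ^ 25) : ∃ g : C, g * u * g⁻¹ = u * K.z := by
  obtain ⟨s1, s2, s3⟩ := sg
  obtain ⟨x, hx, hx3⟩ := K.exists_odd_lift (Perm.mem_alternatingGroup.2 s1) (n := 3) (by decide) p3
  obtain ⟨v, hv⟩ := K.exists_lift (Perm.mem_alternatingGroup.2 s2)
  obtain ⟨g, hg⟩ := K.exists_lift (Perm.mem_alternatingGroup.2 s3)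
  have hgx : x * g = g * x := K.commute_of_odd (by decide) hx3 (by rw [hx, hg]; exact c1.symm)
  have gg : g * g = K.z := K.dbl 9 10 4 5 (by decide) (by decide) (by decide) (by decide) (by decide) (by decide) g hg
  have vv : v * v = K.z := K.dbl 2 3 9 10 (by decide) (by decide) (by decide) (by decide) (by decide) (by decide) v hv
  have gv : g * v * (g * v) = K.z := K.dbl 4 5 2 3 (by decide) (by decide) (by decide) (by decide) (by decide)
    (by decide) (g * v) (by rw [map_mul, hg, hv]; exact c2)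
  have gi : g⁻¹ = g * K.z := by
    rw [inv_eq_iff_mul_eq_one, ← mul_assoc, gg, K.z_mul_z]
  have vi : v⁻¹ = v * K.z := by
    rw [inv_eq_iff_mul_eq_one, ← mul_assoc, vv, K.z_mul_z]
  have hgv : g * v * g⁻¹ = v * K.z := by
    calc g * v * g⁻¹ = g * v * (g * K.z) := by rw [gi]
      _ = g * v * (g * v) * v⁻¹ * K.z := by group
      _ = K.z * v⁻¹ * K.z := by rw [gv]
      _ = K.z * (v * K.z) * K.z := by rw [vi]
      _ = K.z * v * (K.z * K.z) := by group
      _ = v * K.z := by rw [K.z_mul_z, mul_one, K.z_comm v]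
  have hxg : g * x * g⁻¹ = x := by rw [← hgx, mul_inv_cancel_right]
  have hxv : g * (x * v) * g⁻¹ = x * v * K.z := by
    calc g * (x * v) * g⁻¹ = (g * x * g⁻¹) * (g * v * g⁻¹) := by group
      _ = x * v * K.z := by rw [hxg, hgv, mul_assoc]
  refine ⟨g, ?_⟩
  rcases K.lift_eq (g := u) (h := x * v) (by rw [map_mul, hx, hv, hu]; exact p25) with h | h
  · rw [h]; exact hxv
  · rw [h]
    calc g * (x * v * K.z) * g⁻¹ = g * (x * v) * (K.z * g⁻¹) := by group
      _ = g * (x * v) * (g⁻¹ * K.z) := by rw [K.z_comm g⁻¹]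
      _ = g * (x * v) * g⁻¹ * K.z := by group
      _ = x * v * K.z * K.z := by rw [hxv]

include K in
/-- the element of order 40 is not conjugate to its product with `z` -/
theorem not_conj_z {y : C} (hy : K.π y = t40) (g : C) : g * y * g⁻¹ ≠ y * K.z := by
  intro h
  have h1 : K.π g * t40 = t40 * K.π g := by
    have h2 := congrArg K.π h
    rw [map_mul, map_mul, map_mul, map_inv, K.π_z, mul_one, hy] at h2
    exact mul_inv_eq_iff_eq_mul.1 h2
  have h2 := mem_zpowers h1 (Perm.mem_alternatingGroup.1 (K.mem_alternating g))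
  obtain ⟨i, hi⟩ := Subgroup.mem_zpowers_iff.1 h2
  have h3 : K.π g = K.π (y ^ i) := by rw [map_zpow, hy, hi]
  have h4 : g * y = y * g := by
    rcases K.lift_eq h3 with h5 | h5
    · rw [h5]
      exact (Commute.refl y).zpow_left i
    · rw [h5, mul_assoc, ← K.z_comm y, ← mul_assoc, ← mul_assoc]
      congr 1
      exact (Commute.refl y).zpow_left i
  rw [h4, mul_inv_cancel_right] at h
  exact K.z_ne (mul_eq_left.1 h.symm)

end cover

section mt

variable {G : Type*} [Group G] [Finite G] (L : Cfsg.Agent.TypeM.Two.MT 11 G)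

include L in
/-- The elements of order 40. -/
theorem exists40 : ∃ w : G, orderOf w = 40 ∧ Nat.card (centralizer ({w} : Set G)) ≤ 40 ∧ ¬ IsConj w (w ^ 21) ∧
    (∀ m : ℕ, m.Coprime 40 → IsConj w (w ^ m) ∨ IsConj (w ^ 21) (w ^ m)) ∧ IsConj (w ^ 25) (w ^ 5) := by
  obtain ⟨y, hy, h1, h2⟩ := even_orders L.K (n := 10)
    (Perm.mem_alternatingGroup.2 sgn40)
    (a := 0) (b := 2) (c := 1) (d := 3) (by decide) (by decide) (by decide) (by decide) (by decide)
    (by decide) p40 o40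
  have h2' : y ^ 20 = L.K.z := h2
  have hyo : orderOf y = 40 := h1
  have hy1 : y ^ 40 = 1 := by rw [← hyo, pow_orderOf_eq_one]
  have ht : (y : G) ^ 20 = L.t := (congrArg Subtype.val h2').trans L.hz
  have hw : orderOf (y : G) = 40 := by rw [Subgroup.orderOf_coe, hyo]
  have hw1 : (y : G) ^ 40 = 1 := by rw [← hw, pow_orderOf_eq_one]
  refine ⟨(y : G), hw, ?_, ?_, ?_, ?_⟩
  · refine (card_centralizer_le L h2).trans ?_
    refine Nat.le_of_dvd (by norm_num) ?_
    rw [← card40, ← hy]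
    exact Cfsg.Agent.CpAutLy.Cov.card_dvd L.K (by rw [hy]; exact hasOdd40)
  · intro hc
    obtain ⟨g, hg⟩ := isConj_iff.1 hc
    have hgt : g * L.t * g⁻¹ = L.t := by
      have h3 : (g * (y : G) * g⁻¹) ^ 20 = ((y : G) ^ 21) ^ 20 := by rw [hg]
      rw [conj_pow, ht, ← pow_mul, show 21 * 20 = 40 * 10 + 20 from rfl, pow_add, pow_mul, hw1, one_pow,
        one_mul, ht] at h3
      exact h3
    have hgm : g ∈ centralizer ({L.t} : Set G) := by
      rw [mem_centralizer_singleton_iff]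
      exact mul_inv_eq_iff_eq_mul.1 hgt
    refine not_conj_z L.K hy ⟨g, hgm⟩ ?_
    rw [← h2', ← pow_succ']
    exact Subtype.ext hg
  · intro m hm
    obtain ⟨ρ, hs, hρ⟩ := exists_even hm
    obtain ⟨g, hg⟩ := L.K.exists_lift (Perm.mem_alternatingGroup.2 hs)
    have h3 : L.K.π (g * y * g⁻¹) = L.K.π (y ^ m) := by
      rw [map_mul, map_mul, map_inv, map_pow, hg, hy, hρ]
    rcases L.K.lift_eq h3 with h4 | h4
    · left
      exact isConj_iff.2 ⟨(g : G), congrArg Subtype.val h4⟩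
    · right
      have h5 : g * y ^ 21 * g⁻¹ = y ^ m := by
        rw [← conj_pow, h4, ← h2', ← pow_add, ← pow_mul]
        have hodd : m % 2 = 1 := by
          have h6 : m.Coprime 2 := Nat.Coprime.coprime_dvd_right (by norm_num) hm
          rw [Nat.coprime_two_right] at h6
          exact Nat.odd_iff.1 h6
        have h7 : (m + 20) * 21 = 40 * ((m / 2) + 11) + m := by omega
        rw [h7, pow_add, pow_mul, hy1, one_pow, one_mul]
      exact isConj_iff.2 ⟨(g : G), congrArg Subtype.val h5⟩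
  · obtain ⟨g, hg⟩ := conj_z L.K (u := y ^ 25) (by rw [map_pow, hy])
    have h5 : g * y ^ 25 * g⁻¹ = y ^ 5 := by
      rw [hg, ← h2', ← pow_add, show 25 + 20 = 40 + 5 from rfl, pow_add, hy1, one_mul]
    exact isConj_iff.2 ⟨(g : G), congrArg Subtype.val h5⟩

end mt

theorem two_ly' : H387.VO.TwoVan 5 Cfsg.Spor.Ly := by
  have hfin : Finite Cfsg.Spor.Ly := Cfsg.Agent.Ly.Setup.finite_ly
  obtain ⟨L⟩ := Cfsg.Agent.TypeM.FactsLy.exists_mt_ly
  obtain ⟨w, hw, hc, h1, h2, h3⟩ := exists40 L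
  have hin : ∀ α : MulAut Cfsg.Spor.Ly, IsConj w (α w) := by
    intro α
    obtain ⟨g, rfl⟩ := Cfsg.Agent.TypeM.OutLyFin.inner_ly α
    exact isConj_iff.2 ⟨g, rfl⟩
  have hk := card_classes
  obtain ⟨v1, v2⟩ := vz_forty hw hc h1 h2 h3 (by omega) fun α => Or.inl (hin α)
  refine ⟨w, w ^ 21, by rw [hw]; norm_num, ?_, v1, v2, fun α h => h1 (h ▸ hin α)⟩
  rw [Nat.Coprime.orderOf_pow (by rw [hw]; norm_num), hw]
  norm_num

/-- **The row `Ly`, `p = 5`.** -/
theorem two_ly_p {K : Type u} [Group K] (h : Spor.IsoLy K) : H387.VO.TwoVan 5 K := by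
  obtain ⟨e⟩ := h
  exact two_ly'.mulEquiv e.symm

end Cfsg.Agent.H546.VO.Ly
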