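import Cfsg.Agent.H710.Spor.HNCent

/-!
# An element of order 40 of `2.HS.2` (helper546)

`y40` is a word of order 40 in `H0` (`2.HS.2` inside the Harada–Norton group) with `y40 ^ 20 = τ`; `mem_of_comm` : an
element of `H0` commuting with `y40` is `y40 ^ k` or `y40 ^ k * τ` with `k < 20`; `c23`, `c11`, `c25` : conjugations.
-/

set_option autoImplicit false
set_option maxRecDepth 100000

namespace Cfsg.Agent.H546.VO.HNForty

open Cfsg.Agent.HN.Pres Cfsg.Agent.HN.HS100 Cfsg.Agent.HN.P1408 Cfsg.Agent.HN.H0Basic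
open Cfsg.Agent.HN.CentBound Equiv
open Cfsg.Agent.H710.Spor.HNCent (sep chkU Fixes Fixes.step)
open Cfsg.Agent.SporadicA.PermTab (band allB allB_iff band_eq_true lk bitM autG mem_autG)

noncomputable section

def xw : List ℕ := [0, 2, 4, 2]

/-- an element of order 40 -/
def y40 : H0 := hw xw

def pw (n : ℕ) : List ℕ := Nat.rec [] (fun _ ih => xw ++ ih) n

theorem hw_pw (n : ℕ) : hw (pw n) = y40 ^ n := by
  induction n with
  | zero => rw [pow_zero]; exact hw_nil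
  | succ n ih =>
    rw [pow_succ', ← ih]
    exact hw_append xw (pw n)

theorem y_pow_20 : y40 ^ 20 = τ := by
  rw [← hw_pw, ← hw_τ]
  exact hw_eq (by decide +kernel)

theorem y_pow_40 : y40 ^ 40 = 1 := by
  rw [show 40 = 20 * 2 from rfl, pow_mul, y_pow_20, pow_two, τ_mul_τ]

/-- iterated images of a point -/
def tx (k i : ℕ) : ℕ := Nat.rec i (fun _ ih => tl xw ih) k

theorem val_pow (k : ℕ) (i : Fin 100) : (((φ y40) ^ k) i : ℕ) = tx k i := by
  induction k with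
  | zero => rfl
  | succ k ih =>
    rw [pow_succ', Perm.mul_apply, y40, φ_hw_apply, ← y40, ih]
    rfl

theorem chk8 : tx 8 1 ≠ 1 := by decide +kernel

theorem orderOf_y : orderOf y40 = 40 := by
  refine orderOf_eq_of_pow_and_pow_div_prime (by norm_num) y_pow_40 fun p hp hd => ?_
  have h1 : p ∈ (40 : ℕ).primeFactors := Nat.mem_primeFactors.2 ⟨hp, hd, by norm_num⟩
  have h2 : (40 : ℕ).primeFactors = {2, 5} := by decide +kernel
  rw [h2, Finset.mem_insert, Finset.mem_singleton] at h1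
  rcases h1 with rfl | rfl
  · rw [show 40 / 2 = 20 from rfl, y_pow_20]
    exact τ_ne_one
  · rw [show 40 / 5 = 8 from rfl]
    intro h
    apply chk8
    have h3 := val_pow 8 1
    rw [← map_pow, h, map_one φ, Perm.one_apply] at h3
    exact h3.symm

/-! ### Conjugations -/

theorem conj_of_eqw {g : List ℕ} {m n : ℕ} (h : eqw (g ++ (pw m ++ iw g)) (pw n) = true) :
    hw g * y40 ^ m * (hw g)⁻¹ = y40 ^ n := by
  rw [← hw_pw, ← hw_pw, ← hw_iw, mul_assoc, ← hw_append, ← hw_append]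
  exact hw_eq h

theorem c23 : ∃ g : H0, g * y40 ^ 1 * g⁻¹ = y40 ^ 23 :=
  ⟨_, conj_of_eqw (g := [2, 1, 3, 3, 0, 2, 2, 2, 0, 2, 0, 2]) (by decide +kernel)⟩

theorem c11 : ∃ g : H0, g * y40 ^ 1 * g⁻¹ = y40 ^ 11 :=
  ⟨_, conj_of_eqw (g := [3, 3, 0]) (by decide +kernel)⟩

theorem c25 : ∃ g : H0, g * y40 ^ 25 * g⁻¹ = y40 ^ 5 :=
  ⟨_, conj_of_eqw (g := [3, 1, 2, 2, 2, 0, 2, 2, 2, 0, 3, 3]) (by decide +kernel)⟩

/-! ### The centralizer -/

theorem chk_adj : bitM 100 adjA 1 (tx 1 1) = 1 := by decide +kernel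
theorem chk_adj' : ∀ v < 100, bitM 100 adjA v (tx 1 v) = 1 → ∃ k < 20, v = tx k 1 := by decide +kernel

def L0 : List ℕ := List.map (fun k => tx k 1) (List.range 20)

theorem chk_L0 : ∀ i ∈ L0, i < 100 ∧ ∃ k < 20, i = tx k 1 := by decide +kernel
theorem chkU0 : chkU L0 (List.range 100) = true := by decide +kernel

section

variable {g : Perm (Fin 100)} (hg : g ∈ autG 100 adjA) (hc : g * φ y40 = φ y40 * g)

include hc in
theorem map_pow' (k : ℕ) (i : Fin 100) : g (((φ y40) ^ k) i) = ((φ y40) ^ k) (g i) := by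
  have h : g * (φ y40) ^ k = (φ y40) ^ k * g := (Commute.pow_right (show Commute g (φ y40) from hc) k)
  rw [← Perm.mul_apply, h, Perm.mul_apply]

include hg hc in
theorem g_one : ∃ k < 20, g 1 = ((φ y40) ^ k) 1 := by
  have h1 := mem_autG.1 hg 1 (((φ y40) ^ 1) 1)
  rw [map_pow' hc, val_pow, val_pow] at h1
  obtain ⟨k, hk, h⟩ := chk_adj' (g 1) (g 1).2 (by rw [h1]; exact chk_adj)
  refine ⟨k, hk, Fin.ext ?_⟩
  rw [h, val_pow]
  rfl

include hg hc in
theorem eq_one_of_fix (h1 : g 1 = 1) : g = 1 := by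
  have h0 : Fixes g L0 := by
    intro i hi
    obtain ⟨hi', k, hk, rfl⟩ := chk_L0 i hi
    refine ⟨hi', ?_⟩
    have e : (⟨tx k 1, hi'⟩ : Fin 100) = ((φ y40) ^ k) 1 := Fin.ext (by rw [val_pow]; rfl)
    rw [e, map_pow' hc, h1]
  have h2 := h0.step hg chkU0 (by simp)
  ext i
  obtain ⟨_, h⟩ := h2 i (by simp)
  exact congrArg Fin.val h

end

/-- **The centraliser of `y40`** -/
theorem mem_of_comm {u : H0} (h : u * y40 = y40 * u) : ∃ k < 20, u = y40 ^ k ∨ u = y40 ^ k * τ := by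
  have hc : φ u * φ y40 = φ y40 * φ u := by rw [← map_mul, h, map_mul]
  have hg : φ u ∈ autG 100 adjA := range_le ⟨u, rfl⟩
  obtain ⟨k, hk, hk'⟩ := g_one hg hc
  have hc2 : φ ((y40 ^ k)⁻¹ * u) * φ y40 = φ y40 * φ ((y40 ^ k)⁻¹ * u) := by
    rw [← map_mul, ← map_mul]
    congr 1
    have h1 : Commute y40 u := h.symm
    have h2 : Commute y40 ((y40 ^ k)⁻¹) := (Commute.refl y40).pow_right k |>.inv_right
    exact (h2.mul_right h1).eq.symm
  have hg2 : φ ((y40 ^ k)⁻¹ * u) ∈ autG 100 adjA := range_le ⟨_, rfl⟩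
  have e : φ ((y40 ^ k)⁻¹ * u) 1 = ((φ y40) ^ k)⁻¹ (φ u 1) := by
    rw [map_mul, map_inv, map_pow, Perm.mul_apply]
  have h1 := eq_one_of_fix hg2 hc2 (by rw [e, hk']; exact Equiv.symm_apply_apply _ _)
  refine ⟨k, hk, ?_⟩
  rcases φ_eq_one_iff.1 h1 with h2 | h2
  · left; rw [inv_mul_eq_one] at h2; exact h2.symm
  · right; rw [inv_mul_eq_iff_eq_mul] at h2; exact h2

/-- `u y40 u⁻¹ = y40 τ` is impossible -/
theorem not_conj_τ {u : H0} (h : u * y40 * u⁻¹ = y40 * τ) : False := by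
  have h1 : φ u * φ y40 = φ y40 * φ u := by
    have h2 := congrArg φ h
    rw [map_mul, map_mul, map_mul, map_inv, φ_τ, mul_one] at h2
    exact mul_inv_eq_iff_eq_mul.1 h2
  have hg : φ u ∈ autG 100 adjA := range_le ⟨u, rfl⟩
  obtain ⟨k, hk, hk'⟩ := g_one hg h1
  have hc2 : φ ((y40 ^ k)⁻¹ * u) * φ y40 = φ y40 * φ ((y40 ^ k)⁻¹ * u) := by
    rw [map_mul, map_inv, map_pow]
    have h3 : Commute (φ y40) (φ u) := h1.symm
    have h4 : Commute (φ y40) (((φ y40) ^ k)⁻¹) := (Commute.refl (φ y40)).pow_right k |>.inv_right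
    exact (h4.mul_right h3).eq.symm
  have hg2 : φ ((y40 ^ k)⁻¹ * u) ∈ autG 100 adjA := range_le ⟨_, rfl⟩
  have e : φ ((y40 ^ k)⁻¹ * u) 1 = ((φ y40) ^ k)⁻¹ (φ u 1) := by
    rw [map_mul, map_inv, map_pow, Perm.mul_apply]
  have h5 := eq_one_of_fix hg2 hc2 (by rw [e, hk']; exact Equiv.symm_apply_apply _ _)
  have h6 : u * y40 = y40 * u := by
    rcases φ_eq_one_iff.1 h5 with h2 | h2
    · rw [inv_mul_eq_one] at h2
      rw [← h2]
      exact ((Commute.refl y40).pow_left k).eq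
    · rw [inv_mul_eq_iff_eq_mul] at h2
      rw [h2, mul_assoc, ← τ_comm y40, ← mul_assoc, ← mul_assoc]
      congr 1
      exact ((Commute.refl y40).pow_left k).eq
  rw [h6, mul_inv_cancel_right] at h
  exact τ_ne_one (mul_eq_left.1 h.symm)

end

end Cfsg.Agent.H546.VO.HNForty
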