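import Cfsg.Agent.H710.VanCount
import Cfsg.Agent.CharactersDeep.ModCongr
import Cfsg.Agent.Blocks.ExistsModular

/-!
# Vanishing at an element of order 40 (helper546)

`w` of order 40 with `C(w) = ⟨w⟩`, `w' = w ^ 21` (`= w t`, `t` the involution of `⟨w⟩`) not conjugate to `w`, all
generators of `⟨w⟩` conjugate to `w` or `w'`, the elements `w ^ 25`, `w ^ 5` of order 8 conjugate.  Then
`s = (χ(w) + χ(w')) / 2` is an integer, `d ^ 2 = ((χ(w) - χ(w')) / 2) ^ 2` is an integer divisible by 5, and the sum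
of `|s| ^ 2` (of `|d| ^ 2`) over the irreducible characters is 20: at most 24 of them do not vanish at `w`.
-/

set_option autoImplicit false

open scoped ComplexConjugate

namespace Cfsg.Agent.H546.VO

open Cfsg Cfsg.Agent.Characters.Core Cfsg.Agent.Characters.GaloisBasic
open Cfsg.Agent.OddOrderCharacters.PF13.SumBound Cfsg.Agent.CharactersDeep.ModCongr

variable {G : Type*} [Group G]

theorem sq_one {a : ℂ} (h : a ^ 2 = 1) : a = 1 ∨ a = -1 := by
  have h1 : (a - 1) * (a + 1) = 0 := by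
    have h2 : (a - 1) * (a + 1) = a ^ 2 - 1 := by ring
    rw [h2, h, sub_self]
  rcases mul_eq_zero.1 h1 with h2 | h2
  · left; exact sub_eq_zero.1 h2
  · right; exact eq_neg_of_add_eq_zero_left h2

/-- half sums and half differences of the values at `w`, `w ^ 21` are algebraic integers -/
theorem integral_half {χ : G → ℂ} (hχ : IsCharacter G χ) {w : G} (hw : w ^ 40 = 1) (e : ℂ) (he : e = 1 ∨ e = -1) :
    IsIntegral ℤ ((χ w + e * χ (w ^ 21)) / 2) := by
  obtain ⟨d, μ, -, h1, h2⟩ := isCharacter_exists_fin_pow hχ w (by norm_num : (40 : ℕ) ≠ 0) hw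
  have h3 : (χ w + e * χ (w ^ 21)) / 2 = ∑ i, μ i * ((1 + e * μ i ^ 20) / 2) := by
    have h4 := h2 1
    rw [pow_one] at h4
    rw [h4, h2 21, Finset.mul_sum, ← Finset.sum_add_distrib, Finset.sum_div]
    refine Finset.sum_congr rfl fun i _ => ?_
    ring
  rw [h3]
  refine IsIntegral.sum _ fun i _ => ?_
  have h5 : (μ i ^ 20) ^ 2 = 1 := by rw [← pow_mul]; exact h1 i
  have h6 : IsIntegral ℤ (μ i) := by
    refine IsIntegral.of_pow (by norm_num : 0 < 40) ?_
    rw [h1 i]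
    exact isIntegral_one
  rcases sq_one h5 with h | h
  all_goals rcases he with rfl | rfl
  all_goals rw [h]
  all_goals norm_num
  all_goals first | exact h6 | exact isIntegral_zero

/-- the half sum is an integer -/
theorem exists_int_half [Finite G] {χ : G → ℂ} (hχ : IsCharacter G χ) {w : G} (hw : w ^ 40 = 1)
    (hcl : IsClassFunction G χ) (h2 : ∀ m : ℕ, m.Coprime 40 → IsConj w (w ^ m) ∨ IsConj (w ^ 21) (w ^ m))
    (h40 : 40 ∣ Nat.card G) :
    (∃ a : ℤ, (χ w + χ (w ^ 21)) / 2 = a) ∧ ∃ e : ℤ, ((χ w - χ (w ^ 21)) / 2) ^ 2 = e := by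
  have hcj : ∀ x y : G, IsConj x y → χ x = χ y := by
    intro x y h
    obtain ⟨c, rfl⟩ := isConj_iff.1 h
    exact (hcl x c).symm
  have key : ∀ σ : ℂ ≃+* ℂ, (σ (χ w) = χ w ∧ σ (χ (w ^ 21)) = χ (w ^ 21)) ∨
      (σ (χ w) = χ (w ^ 21) ∧ σ (χ (w ^ 21)) = χ w) := by
    intro σ
    obtain ⟨m, hm, hσ⟩ := exists_pow_of_ringEquiv (G := G) σ
    have hm40 : m.Coprime 40 := hm.coprime_dvd_right h40
    have hcomm : (w ^ 21) ^ m = (w ^ m) ^ 21 := by rw [← pow_mul, ← pow_mul, mul_comm]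
    have hback : (w ^ 21) ^ 21 = w := by
      rw [← pow_mul, show 21 * 21 = 40 * 11 + 1 from rfl, pow_succ, pow_mul, hw, one_pow, one_mul]
    rcases h2 m hm40 with h | h
    · left
      refine ⟨by rw [hσ χ hχ, ← hcj _ _ h], ?_⟩
      rw [hσ χ hχ, hcomm]
      obtain ⟨c, hc⟩ := isConj_iff.1 h
      exact (hcj _ _ (isConj_iff.2 ⟨c, by rw [← hc, conj_pow]⟩)).symm
    · right
      refine ⟨by rw [hσ χ hχ, ← hcj _ _ h], ?_⟩
      rw [hσ χ hχ, hcomm]
      obtain ⟨c, hc⟩ := isConj_iff.1 h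
      refine (hcj _ _ (isConj_iff.2 ⟨c, ?_⟩)).symm
      rw [← hc, conj_pow, hback]
  constructor
  · refine exists_int_of_isIntegral ?_ (exists_rat_of_forall_ringEquiv ?_ ?_)
    · simpa using integral_half hχ hw 1 (Or.inl rfl)
    · have h := integral_half hχ hw 1 (Or.inl rfl)
      rw [one_mul] at h
      exact h.tower_top
    · intro σ
      rw [map_div₀, map_add, map_ofNat]
      rcases key σ with ⟨h, h'⟩ | ⟨h, h'⟩
      · rw [h, h']
      · rw [h, h', add_comm]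
  · have h := integral_half hχ hw (-1) (Or.inr rfl)
    rw [neg_one_mul, ← sub_eq_add_neg] at h
    refine exists_int_of_isIntegral (h.pow 2) (exists_rat_of_forall_ringEquiv (h.pow 2).tower_top ?_)
    intro σ
    rw [map_pow, map_div₀, map_sub, map_ofNat]
    rcases key σ with ⟨h, h'⟩ | ⟨h, h'⟩
    · rw [h, h']
    · rw [h, h']
      ring

/-- `5 ∣ d ^ 2` -/
theorem five_dvd [Finite G] {χ : G → ℂ} (hχ : IsIrrCharacter G χ) {w : G} (hw : orderOf w = 40)
    (h3 : IsConj (w ^ 25) (w ^ 5)) {e : ℤ} (he : ((χ w - χ (w ^ 21)) / 2) ^ 2 = e) : 5 ∣ e := by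
  obtain ⟨M, hM⟩ := Cfsg.Agent.Blocks.ExistsModular.exists_isPModular Nat.prime_five
  have hp : M.IsPrime := hM.2.1.isPrime
  have hw1 : w ^ 40 = 1 := by rw [← hw, pow_orderOf_eq_one]
  have hcl := isIrr_isClassFunction hχ
  have hord : ∀ k : ℕ, orderOf (w ^ (16 * k)) ∣ 5 := by
    intro k
    apply orderOf_dvd_of_pow_eq_one
    rw [← pow_mul, show 16 * k * 5 = 40 * (2 * k) by ring, pow_mul, hw1, one_pow]
  have hord' : ∀ k : ℕ, ¬ 5 ∣ orderOf (w ^ (5 * k)) := by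
    intro k h
    have h1 : orderOf (w ^ (5 * k)) ∣ 8 := by
      apply orderOf_dvd_of_pow_eq_one
      rw [← pow_mul, show 5 * k * 8 = 40 * k by ring, pow_mul, hw1, one_pow]
    exact absurd (h.trans h1) (by norm_num)
  have h1 : MemLocalIdeal M (χ w - χ (w ^ 25)) := by
    have h := memLocalIdeal_character_sub hM hχ w (w ^ 16) ⟨w ^ 25, ?_, ?_, ?_, ?_⟩
    · have e1 : (w ^ 16)⁻¹ * w = w ^ 25 := by
        rw [inv_mul_eq_iff_eq_mul, ← pow_add, show 16 + 25 = 40 + 1 from rfl, pow_add, hw1, one_mul, pow_one]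
      rwa [e1] at h
    · rw [← pow_add, show 16 + 25 = 40 + 1 from rfl, pow_add, hw1, one_mul, pow_one]
    · exact (Commute.refl w).pow_pow _ _
    · rcases (Nat.dvd_prime Nat.prime_five).1 (hord 1) with h | h
      · exact ⟨0, by simpa using h⟩
      · exact ⟨1, by simpa using h⟩
    · exact hord' 5
  have h2 : MemLocalIdeal M (χ (w ^ 21) - χ (w ^ 5)) := by
    have h := memLocalIdeal_character_sub hM hχ (w ^ 21) (w ^ 16) ⟨w ^ 5, ?_, ?_, ?_, ?_⟩
    · have e1 : (w ^ 16)⁻¹ * w ^ 21 = w ^ 5 := by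
        rw [inv_mul_eq_iff_eq_mul, ← pow_add]
      rwa [e1] at h
    · rw [← pow_add]
    · exact (Commute.refl w).pow_pow _ _
    · rcases (Nat.dvd_prime Nat.prime_five).1 (hord 1) with h | h
      · exact ⟨0, by simpa using h⟩
      · exact ⟨1, by simpa using h⟩
    · exact hord' 1
  have h4 : χ (w ^ 25) = χ (w ^ 5) := by
    obtain ⟨c, hc⟩ := isConj_iff.1 h3
    rw [← hc]
    exact (hcl _ c).symm
  -- algebraic integers
  let x : AlgInt := ⟨χ w, isIntegral_irr hχ w⟩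
  let x' : AlgInt := ⟨χ (w ^ 21), isIntegral_irr hχ _⟩
  let y : AlgInt := ⟨χ (w ^ 25), isIntegral_irr hχ _⟩
  let y' : AlgInt := ⟨χ (w ^ 5), isIntegral_irr hχ _⟩
  have m1 : x - y ∈ M := (memLocalIdeal_coe_iff hp _).1 h1
  have m2 : x' - y' ∈ M := (memLocalIdeal_coe_iff hp _).1 h2
  have hy : y = y' := Subtype.ext h4
  have m3 : x - x' ∈ M := by
    have : x - x' = (x - y) - (x' - y') := by rw [hy]; ring
    rw [this]
    exact M.sub_mem m1 m2
  have m4 : (x - x') ^ 2 ∈ M := by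
    rw [pow_two]
    exact M.mul_mem_left _ m3
  have h5 : (x - x') ^ 2 = ((4 * e : ℤ) : AlgInt) := by
    apply Subtype.ext
    have h6 : (χ w - χ (w ^ 21)) ^ 2 = 4 * (e : ℂ) := by
      rw [← he]; ring
    push_cast
    exact h6
  rw [h5] at m4
  obtain ⟨n, hn⟩ : ∃ n : ℕ, 4 * e = n ∨ 4 * e = -n := ⟨_, Int.natAbs_eq _⟩
  have h6 : (n : AlgInt) ∈ M := by
    rcases hn with h | h
    · have h7 : (n : AlgInt) = ((4 * e : ℤ) : AlgInt) := by
        rw [h, Int.cast_natCast]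
      rwa [h7]
    · have h7 : (n : AlgInt) = -((4 * e : ℤ) : AlgInt) := by
        rw [h, Int.cast_neg, Int.cast_natCast, neg_neg]
      rw [h7]
      exact M.neg_mem m4
  have h7 : 5 ∣ n := (natCast_mem_iff hM _).1 h6
  omega

/-- The orders of the centralizers of `w`, `w ^ 21`. -/
theorem cent_eq {w : G} (hw : w ^ 40 = 1) :
    Subgroup.centralizer ({w ^ 21} : Set G) = Subgroup.centralizer ({w} : Set G) := by
  have hback : (w ^ 21) ^ 21 = w := by
    rw [← pow_mul, show 21 * 21 = 40 * 11 + 1 from rfl, pow_succ, pow_mul, hw, one_pow, one_mul]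
  ext g
  rw [Subgroup.mem_centralizer_singleton_iff, Subgroup.mem_centralizer_singleton_iff]
  constructor
  · intro h
    have h1 : Commute g ((w ^ 21) ^ 21) := Commute.pow_right (show Commute g (w ^ 21) from h) 21
    rw [hback] at h1
    exact h1
  · intro h
    exact Commute.pow_right (show Commute g w from h) 21

/-- **Vanishing at an element of order 40.** -/
theorem exists_zero [Finite G] {w : G} (hw : orderOf w = 40)
    (hc : Nat.card (Subgroup.centralizer ({w} : Set G)) ≤ 40) (h1 : ¬ IsConj w (w ^ 21))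
    (h2 : ∀ m : ℕ, m.Coprime 40 → IsConj w (w ^ m) ∨ IsConj (w ^ 21) (w ^ m))
    (h3 : IsConj (w ^ 25) (w ^ 5)) (hk : 25 ≤ Nat.card (ConjClasses G)) :
    ∃ χ : IrrCharacter G, (χ : G → ℂ) w = 0 := by
  classical
  by_contra hcon
  push Not at hcon
  have := Fintype.ofFinite G
  have := finite_irr (G := G)
  have := Fintype.ofFinite (IrrCharacter G)
  have hw1 : w ^ 40 = 1 := by rw [← hw, pow_orderOf_eq_one]
  have h40 : 40 ∣ Nat.card G := hw ▸ orderOf_dvd_natCard w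
  have hint : ∀ χ : IrrCharacter G, ∃ a e : ℤ, ((χ : G → ℂ) w + (χ : G → ℂ) (w ^ 21)) / 2 = a ∧
      (((χ : G → ℂ) w - (χ : G → ℂ) (w ^ 21)) / 2) ^ 2 = e := by
    intro χ
    obtain ⟨⟨a, ha⟩, e, he⟩ := exists_int_half (isIrr_isCharacter χ.2) hw1 (isIrr_isClassFunction χ.2) h2 h40
    exact ⟨a, e, ha, he⟩
  choose a e ha he using hint
  have hS : ∀ χ : IrrCharacter G, ‖((χ : G → ℂ) w + (χ : G → ℂ) (w ^ 21)) / 2‖ ^ 2 = (a χ : ℝ) ^ 2 := by
    intro χ
    rw [ha, Complex.norm_intCast, sq_abs]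
  have hD : ∀ χ : IrrCharacter G, ‖((χ : G → ℂ) w - (χ : G → ℂ) (w ^ 21)) / 2‖ ^ 2 = |(e χ : ℝ)| := by
    intro χ
    rw [← norm_pow, he, Complex.norm_intCast]
  -- one is a lower bound
  have key : ∀ χ : IrrCharacter G, (1 : ℝ) ≤
      ‖((χ : G → ℂ) w + (χ : G → ℂ) (w ^ 21)) / 2‖ ^ 2 +
      ‖((χ : G → ℂ) w - (χ : G → ℂ) (w ^ 21)) / 2‖ ^ 2 / 5 := by
    intro χ
    rw [hS, hD]
    by_cases ha0 : a χ = 0
    · have he0 : e χ ≠ 0 := by
        intro he0
        have e1 := ha χ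
        have e2 := he χ
        rw [ha0, Int.cast_zero] at e1
        rw [he0, Int.cast_zero] at e2
        have e3 : ((χ : G → ℂ) w - (χ : G → ℂ) (w ^ 21)) / 2 = 0 := by
          exact pow_eq_zero_iff (two_ne_zero) |>.1 e2
        apply hcon χ
        have e4 : (χ : G → ℂ) w = ((χ : G → ℂ) w + (χ : G → ℂ) (w ^ 21)) / 2 +
          ((χ : G → ℂ) w - (χ : G → ℂ) (w ^ 21)) / 2 := by ring
        rw [e4, e1, e3, add_zero]
      obtain ⟨c, hc⟩ := five_dvd χ.2 hw h3 (he χ)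
      have hc0 : c ≠ 0 := by
        rintro rfl
        exact he0 (by rw [hc, mul_zero])
      have h5 : (1 : ℤ) ≤ |c| := Int.one_le_abs hc0
      have h6 : (1 : ℝ) ≤ |(c : ℝ)| := by exact_mod_cast h5
      rw [hc]
      push_cast
      rw [abs_mul, abs_of_pos (by norm_num : (0 : ℝ) < 5)]
      nlinarith [sq_nonneg ((a χ : ℝ))]
    · have h5 : (1 : ℤ) ≤ (a χ) ^ 2 := by
        have := sq_pos_of_ne_zero ha0 (R := ℤ)
        omega
      have h6 : (1 : ℝ) ≤ (a χ : ℝ) ^ 2 := by exact_mod_cast h5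
      have h7 := abs_nonneg (e χ : ℝ)
      linarith
  -- the sums
  have horth : ∑ χ : IrrCharacter G, (χ : G → ℂ) w * conj ((χ : G → ℂ) (w ^ 21)) = 0 := by
    have h := (Cfsg.Agent.S0145.result w (w ^ 21)).2 h1
    rwa [finsum_eq_sum_of_fintype] at h
  have hre : ∑ χ : IrrCharacter G, ((χ : G → ℂ) w * conj ((χ : G → ℂ) (w ^ 21))).re = 0 := by
    rw [← Complex.re_sum, horth, Complex.zero_re]
  have n1 := Cfsg.Agent.SmallSimple.SelfCentSum.sum_norm_sq w
  have n2 := Cfsg.Agent.SmallSimple.SelfCentSum.sum_norm_sq (w ^ 21)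
  rw [cent_eq hw1] at n2
  have hadd : ∀ χ : IrrCharacter G, ‖((χ : G → ℂ) w + (χ : G → ℂ) (w ^ 21)) / 2‖ ^ 2 =
      (‖(χ : G → ℂ) w‖ ^ 2 + ‖(χ : G → ℂ) (w ^ 21)‖ ^ 2) / 4 +
        ((χ : G → ℂ) w * conj ((χ : G → ℂ) (w ^ 21))).re / 2 := by
    intro χ
    rw [norm_div, div_pow]
    simp only [Complex.sq_norm]
    rw [Complex.normSq_add]
    norm_num
    ring
  have hsub : ∀ χ : IrrCharacter G, ‖((χ : G → ℂ) w - (χ : G → ℂ) (w ^ 21)) / 2‖ ^ 2 =
      (‖(χ : G → ℂ) w‖ ^ 2 + ‖(χ : G → ℂ) (w ^ 21)‖ ^ 2) / 4 -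
        ((χ : G → ℂ) w * conj ((χ : G → ℂ) (w ^ 21))).re / 2 := by
    intro χ
    rw [norm_div, div_pow]
    simp only [Complex.sq_norm]
    rw [Complex.normSq_sub]
    norm_num
    ring
  have hsum1 : ∑ χ : IrrCharacter G, ‖((χ : G → ℂ) w + (χ : G → ℂ) (w ^ 21)) / 2‖ ^ 2 =
      (Nat.card (Subgroup.centralizer ({w} : Set G)) : ℝ) / 2 := by
    rw [Finset.sum_congr rfl fun χ _ => hadd χ, Finset.sum_add_distrib, ← Finset.sum_div, ← Finset.sum_div,
      Finset.sum_add_distrib, hre, n1, n2]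
    ring
  have hsum2 : ∑ χ : IrrCharacter G, ‖((χ : G → ℂ) w - (χ : G → ℂ) (w ^ 21)) / 2‖ ^ 2 =
      (Nat.card (Subgroup.centralizer ({w} : Set G)) : ℝ) / 2 := by
    rw [Finset.sum_congr rfl fun χ _ => hsub χ, Finset.sum_sub_distrib, ← Finset.sum_div, ← Finset.sum_div,
      Finset.sum_add_distrib, hre, n1, n2]
    ring
  have hfin : (Nat.card (ConjClasses G) : ℝ) ≤
      (Nat.card (Subgroup.centralizer ({w} : Set G)) : ℝ) / 2 +
      (Nat.card (Subgroup.centralizer ({w} : Set G)) : ℝ) / 2 / 5 := by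
    have h5 : ∑ χ : IrrCharacter G, (1 : ℝ) ≤ ∑ χ : IrrCharacter G,
        (‖((χ : G → ℂ) w + (χ : G → ℂ) (w ^ 21)) / 2‖ ^ 2 +
        ‖((χ : G → ℂ) w - (χ : G → ℂ) (w ^ 21)) / 2‖ ^ 2 / 5) := Finset.sum_le_sum fun χ _ => key χ
    rw [Finset.sum_add_distrib, ← Finset.sum_div, hsum1, hsum2, Finset.sum_const, nsmul_eq_mul, mul_one,
      Finset.card_univ, ← Nat.card_eq_fintype_card, card_irr] at h5
    exact h5
  have hc' : (Nat.card (Subgroup.centralizer ({w} : Set G)) : ℝ) ≤ 40 := by exact_mod_cast hc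
  have hk' : (25 : ℝ) ≤ Nat.card (ConjClasses G) := by exact_mod_cast hk
  linarith

end Cfsg.Agent.H546.VO
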